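import Mathlib
import Groth.Prelude

/-!
# Étale morphisms which are isomorphisms over a dense open (helper8, S13428)

* `etale_of_smooth_of_dense`: a smooth morphism which is étale on a dense open of the source is
  étale.
* `isOpenImmersion_of_isIso_over_dense`: a morphism `φ : M ⟶ N` of `S`-schemes with `M` étale and
  separated over `S`, `N` smooth over `S` and étale over a dense open `S₀`, which is an isomorphism
  over `S₀`, is an open immersion.
-/

set_option autoImplicit false
universe u
open CategoryTheory CategoryTheory.Limits AlgebraicGeometry TopologicalSpace Opposite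

namespace Groth.Agent.H8.EtaleDense

lemma mem_unramifiedLocus_of_stalkMap {X Y : Scheme.{u}} (f : X ⟶ Y) {x : X} (U : Y.Opens)
    (hU : IsAffineOpen U) (V : X.Opens) (hV : IsAffineOpen V) (hVU : V ≤ f ⁻¹ᵁ U) (hx : x ∈ V)
    (H : (f.stalkMap x).hom.FormallyUnramified) :
    letI := (f.appLE U V hVU).hom.toAlgebra
    hV.primeIdealOf ⟨x, hx⟩ ∈ Algebra.unramifiedLocus Γ(Y, U) Γ(X, V) := by
  let := (f.appLE U V hVU).hom.toAlgebra
  let p := (hU.primeIdealOf ⟨f x, hVU hx⟩).asIdeal
  let q := (hV.primeIdealOf ⟨x, hx⟩).asIdeal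
  have : q.LiesOver p :=
    ⟨congr($(IsAffineOpen.comap_primeIdealOf_appLE U hU V hV hVU hx).1).symm⟩
  let := Localization.AtPrime.algebraOfLiesOver p q
  have h0 : (algebraMap (Localization.AtPrime p) (Localization.AtPrime q)).FormallyUnramified :=
    (RingHom.FormallyUnramified.respectsIso.arrow_mk_iso_iff
      (IsAffineOpen.arrowStalkMapIso f U hU V hV hVU hx)).mp H
  have h1 : Algebra.FormallyUnramified (Localization.AtPrime p) (Localization.AtPrime q) :=
    RingHom.formallyUnramified_algebraMap.mp h0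
  show Algebra.FormallyUnramified Γ(Y, U) (Localization.AtPrime q)
  exact Algebra.FormallyUnramified.comp Γ(Y, U) (Localization.AtPrime p) (Localization.AtPrime q)

/-- A smooth morphism which is étale on a dense open subscheme of the source is étale. -/
theorem etale_of_smooth_of_dense {N S P : Scheme.{u}} (f : N ⟶ S) [Smooth f] (j : P ⟶ N)
    [IsOpenImmersion j] (hd : Dense (Set.range j)) [Etale (j ≫ f)] : Etale f := by
  have hst : ∀ y : P, (f.stalkMap (j y)).hom.FormallyUnramified := by
    intro y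
    have h1 : ((j ≫ f).stalkMap y).hom.FormallyUnramified :=
      FormallyUnramified.stalkMap (j ≫ f) y
    have h1' : (f.stalkMap (j y) ≫ j.stalkMap y).hom.FormallyUnramified := by
      have h3 := Scheme.Hom.stalkMap_comp j f y
      rw [h3] at h1
      exact h1
    have h4 : (f.stalkMap (j y)).hom =
        ((inv (j.stalkMap y)).hom).comp (f.stalkMap (j y) ≫ j.stalkMap y).hom := by
      rw [← CommRingCat.hom_comp, Category.assoc, IsIso.hom_inv_id, Category.comp_id]
    rw [h4]
    exact h1'.comp (RingHom.FormallyUnramified.of_surjective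
      ((ConcreteCategory.bijective_of_isIso (inv (j.stalkMap y))).2))
  refine ⟨fun {U} hU {V} hV e => ?_⟩
  have hsm := f.smooth_appLE hU hV e
  letI alg : Algebra Γ(S, U) Γ(N, V) := (f.appLE U V e).hom.toAlgebra
  haveI hS : Algebra.Smooth Γ(S, U) Γ(N, V) := hsm
  have hloc : Algebra.unramifiedLocus Γ(S, U) Γ(N, V) = Set.univ := by
    rw [Algebra.unramifiedLocus_eq_compl_support, Set.compl_univ_iff,
      ← Set.not_nonempty_iff_eq_empty]
    intro hne
    have hopen : IsOpen (Module.support Γ(N, V) Ω[Γ(N, V)⁄Γ(S, U)]) := by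
      have hlc := Module.isLocallyConstant_rankAtStalk (R := Γ(N, V))
        (M := Ω[Γ(N, V)⁄Γ(S, U)])
      have hEq : Module.support Γ(N, V) Ω[Γ(N, V)⁄Γ(S, U)] =
          (Module.rankAtStalk (R := Γ(N, V)) Ω[Γ(N, V)⁄Γ(S, U)]) ⁻¹' {0}ᶜ := by
        ext p
        simp only [Set.mem_preimage, Set.mem_compl_iff, Set.mem_singleton_iff]
        rw [Module.rankAtStalk_eq_zero_iff_notMem_support, not_not]
      rw [hEq]
      exact hlc _
    have hO : IsOpen (hV.fromSpec '' (Module.support Γ(N, V) Ω[Γ(N, V)⁄Γ(S, U)])) :=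
      hV.fromSpec.isOpenEmbedding.isOpenMap _ hopen
    obtain ⟨_, ⟨q, hqT, rfl⟩, ⟨y, hy⟩⟩ := hd.inter_open_nonempty _ hO (hne.image _)
    have hqV : hV.fromSpec q ∈ (V : Set N) := by
      rw [← hV.range_fromSpec]
      exact Set.mem_range_self q
    have hx : j y ∈ V := by
      rw [hy]
      exact hqV
    have hprime : hV.primeIdealOf ⟨j y, hx⟩ = q :=
      hV.fromSpec.isOpenEmbedding.injective ((hV.fromSpec_primeIdealOf ⟨j y, hx⟩).trans hy)
    have hmem := mem_unramifiedLocus_of_stalkMap f U hU V hV e hx (hst y)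
    rw [hprime, Algebra.unramifiedLocus_eq_compl_support] at hmem
    exact hmem hqT
  have hunr : Algebra.FormallyUnramified Γ(S, U) Γ(N, V) :=
    Algebra.unramifiedLocus_eq_univ_iff.mp hloc
  exact Algebra.Etale.iff_formallyUnramified_and_smooth.mpr ⟨hunr, hS⟩

/-- A schematically dense open is dense. -/
lemma dense_of_schematicallyDense {S : Scheme.{u}} (S₀ : S.Opens)
    (h : CInt.IsSchematicallyDense S₀) : Dense (S₀ : Set S) := by
  rw [dense_iff_inter_open]
  intro O hO hne
  by_contra hcon
  let V : S.Opens := ⟨O, hO⟩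
  have hbot : V ⊓ S₀ = ⊥ := by
    ext x
    simp only [Opens.coe_inf, Opens.coe_bot, Set.mem_inter_iff, Set.mem_empty_iff_false,
      iff_false, not_and]
    intro hx hx'
    exact hcon ⟨x, hx, hx'⟩
  have hinj := h V
  haveI : Nonempty V := hne.to_subtype
  haveI : Nontrivial Γ(S, V) := inferInstance
  have hsub : Subsingleton Γ(S, V ⊓ S₀) := by
    rw [hbot]
    infer_instance
  exact zero_ne_one (hinj (Subsingleton.elim _ _) : (0 : Γ(S, V)) = 1)

/-- The main statement. -/
theorem isOpenImmersion_of_isIso_over_dense {S : Scheme.{u}} (S₀ : S.Opens)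
    (hS₀ : Dense (S₀ : Set S)) (N : Over S) [Smooth N.hom]
    [Etale ((Over.pullback S₀.ι).obj N).hom]
    (M : Over S) [Etale M.hom] [IsSeparated M.hom]
    (φ : M ⟶ N) [IsIso ((Over.pullback S₀.ι).map φ)] :
    IsOpenImmersion φ.left := by
  -- `N` is étale over `S`
  have hrangeι : Set.range S₀.ι = (S₀ : Set S) := Scheme.Opens.range_ι S₀
  haveI hE0 : Etale (pullback.snd N.hom S₀.ι) :=
    inferInstanceAs (Etale ((Over.pullback S₀.ι).obj N).hom)
  haveI hE1 : Etale (pullback.fst N.hom S₀.ι ≫ N.hom) := by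
    rw [pullback.condition]
    infer_instance
  have hdN : Dense (Set.range (pullback.fst N.hom S₀.ι)) := by
    rw [Scheme.Pullback.range_fst, hrangeι]
    exact hS₀.preimage N.hom.isOpenMap
  haveI hNet : Etale N.hom := etale_of_smooth_of_dense N.hom (pullback.fst N.hom S₀.ι) hdN
  -- `φ` is étale and separated
  have hw : φ.left ≫ N.hom = M.hom := Over.w φ
  haveI : Etale (φ.left ≫ N.hom) := by rw [hw]; infer_instance
  haveI : IsSeparated (φ.left ≫ N.hom) := by rw [hw]; infer_instance
  haveI hφet : Etale φ.left := Etale.of_comp φ.left N.hom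
  haveI hφsep : IsSeparated φ.left := IsSeparated.of_comp φ.left N.hom
  -- the restriction of `φ` over `S₀` is a monomorphism
  haveI hisoL : IsIso ((Over.pullback S₀.ι).map φ).left :=
    inferInstanceAs (IsIso ((Over.forget _).map ((Over.pullback S₀.ι).map φ)))
  have hfac : ((Over.pullback S₀.ι).map φ).left ≫ pullback.fst N.hom S₀.ι =
      pullback.fst M.hom S₀.ι ≫ φ.left := by
    exact pullback.lift_fst _ _ _
  haveI hmono : Mono (pullback.fst M.hom S₀.ι ≫ φ.left) := by
    rw [← hfac]
    infer_instance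
  -- the diagonal
  have hp2 : pullback.snd φ.left φ.left ≫ M.hom = pullback.fst φ.left φ.left ≫ M.hom := by
    rw [← hw, ← Category.assoc, ← pullback.condition, Category.assoc]
  haveI : Etale (pullback.fst φ.left φ.left ≫ M.hom) := inferInstance
  have hdP : Dense ((pullback.fst φ.left φ.left ≫ M.hom) ⁻¹' (S₀ : Set S)) :=
    hS₀.preimage (pullback.fst φ.left φ.left ≫ M.hom).isOpenMap
  let P₀ : (pullback φ.left φ.left).Opens := (pullback.fst φ.left φ.left ≫ M.hom) ⁻¹ᵁ S₀
  have hrangeM : Set.range (pullback.fst M.hom S₀.ι) = M.hom ⁻¹' (S₀ : Set S) := by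
    rw [Scheme.Pullback.range_fst, hrangeι]
  have hr1 : Set.range (P₀.ι ≫ pullback.fst φ.left φ.left) ⊆
      Set.range (pullback.fst M.hom S₀.ι) := by
    rintro _ ⟨z, rfl⟩
    rw [hrangeM]
    change M.hom ((P₀.ι ≫ pullback.fst φ.left φ.left) z) ∈ (S₀ : Set S)
    rw [← Scheme.Hom.comp_apply, Category.assoc]
    exact z.2
  have hr2 : Set.range (P₀.ι ≫ pullback.snd φ.left φ.left) ⊆
      Set.range (pullback.fst M.hom S₀.ι) := by
    rintro _ ⟨z, rfl⟩
    rw [hrangeM]
    change M.hom ((P₀.ι ≫ pullback.snd φ.left φ.left) z) ∈ (S₀ : Set S)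
    rw [← Scheme.Hom.comp_apply, Category.assoc, hp2]
    exact z.2
  let l₁ := IsOpenImmersion.lift (pullback.fst M.hom S₀.ι)
    (P₀.ι ≫ pullback.fst φ.left φ.left) hr1
  let l₂ := IsOpenImmersion.lift (pullback.fst M.hom S₀.ι)
    (P₀.ι ≫ pullback.snd φ.left φ.left) hr2
  have hl₁ : l₁ ≫ pullback.fst M.hom S₀.ι = P₀.ι ≫ pullback.fst φ.left φ.left :=
    IsOpenImmersion.lift_fac _ _ _
  have hl₂ : l₂ ≫ pullback.fst M.hom S₀.ι = P₀.ι ≫ pullback.snd φ.left φ.left :=
    IsOpenImmersion.lift_fac _ _ _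
  have hl : l₁ = l₂ := by
    rw [← cancel_mono (pullback.fst M.hom S₀.ι ≫ φ.left), ← Category.assoc, ← Category.assoc,
      hl₁, hl₂, Category.assoc, Category.assoc, pullback.condition]
  have heq : P₀.ι ≫ pullback.fst φ.left φ.left = P₀.ι ≫ pullback.snd φ.left φ.left := by
    rw [← hl₁, ← hl₂, hl]
  have hιfac : P₀.ι = (P₀.ι ≫ pullback.fst φ.left φ.left) ≫ pullback.diagonal φ.left := by
    apply pullback.hom_ext
    · rw [Category.assoc, pullback.diagonal_fst, Category.comp_id]
    · rw [Category.assoc, pullback.diagonal_snd, Category.comp_id, heq]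
  have hsub : ((pullback.fst φ.left φ.left ≫ M.hom) ⁻¹' (S₀ : Set S)) ⊆
      Set.range (pullback.diagonal φ.left) := by
    intro z hz
    have hz' : z ∈ Set.range P₀.ι := by
      rw [Scheme.Opens.range_ι]
      exact hz
    obtain ⟨w, rfl⟩ := hz'
    rw [hιfac, Scheme.Hom.comp_apply]
    exact Set.mem_range_self _
  have hclosed : IsClosed (Set.range (pullback.diagonal φ.left)) :=
    (pullback.diagonal φ.left).isClosedEmbedding.isClosed_range
  have hsurj : Function.Surjective (pullback.diagonal φ.left) := by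
    rw [← Set.range_eq_univ, ← Set.univ_subset_iff, ← hdP.closure_eq]
    exact hclosed.closure_subset_iff.mpr hsub
  haveI : Epi (pullback.diagonal φ.left).base := (TopCat.epi_iff_surjective _).mpr hsurj
  haveI : IsIso (pullback.diagonal φ.left) := IsOpenImmersion.isIso _
  haveI : Mono φ.left := (pullback.isIso_diagonal_iff _).mp inferInstance
  exact IsOpenImmersion.of_flat_of_mono φ.left

end Groth.Agent.H8.EtaleDense
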